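import Mathlib
import Groth.Agent.Lib.Helper9.Misc.FlatCl
import Groth.Agent.Lib.Helper3.AG.FibreDim

universe u

open CategoryTheory CategoryTheory.Limits AlgebraicGeometry TopologicalSpace Opposite

namespace Groth.Agent.H5.FlatLim

open Groth.Agent.H9.FlatCl

/-- a nonzero function on an affine open of an integral scheme acts injectively on the sections
of a flat scheme over it. -/
theorem eq_zero_of_mul_eq_zero {Z' Y : Scheme.{u}} [IsIntegral Y] (h : Z' ⟶ Y) [Flat h]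
    (V : Y.Opens) (hV : IsAffineOpen V) (a : Γ(Y, V)) (ha : a ≠ 0)
    (O : Z'.Opens) (hO : O ≤ h ⁻¹ᵁ V) (s : Γ(Z', O))
    (hs : (h.appLE V O hO).hom a * s = 0) : s = 0 := by
  refine TopCat.Presheaf.section_ext Z'.sheaf O s 0 (fun x hx => ?_)
  obtain ⟨O', hO'aff, hxO', hO'O⟩ := exists_affine_nhds x O hx
  have hres : (Z'.presheaf.map (homOfLE hO'O).op).hom s = 0 := by
    have hflat := HasRingHomProperty.appLE @Flat h inferInstance ⟨V, hV⟩ ⟨O', hO'aff⟩
      (hO'O.trans hO)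
    letI := (h.appLE V O' (hO'O.trans hO)).hom.toAlgebra
    haveI : Module.Flat Γ(Y, V) Γ(Z', O') := hflat
    haveI : Nonempty V := ⟨⟨h x, hO hx⟩⟩
    have haM : a ∈ nonZeroDivisors Γ(Y, V) := mem_nonZeroDivisors_of_ne_zero ha
    have hreg := Module.Flat.isSMulRegular_of_nonZeroDivisors (M := Γ(Z', O')) haM
    have e1 : h.appLE V O' (hO'O.trans hO) =
        h.appLE V O hO ≫ Z'.presheaf.map (homOfLE hO'O).op :=
      (Scheme.Hom.appLE_map _ _ _).symm
    have : a • ((Z'.presheaf.map (homOfLE hO'O).op).hom s) = a • (0 : Γ(Z', O')) := by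
      rw [smul_zero, Algebra.smul_def]
      show (h.appLE V O' (hO'O.trans hO)).hom a * _ = 0
      rw [e1]
      show (Z'.presheaf.map (homOfLE hO'O).op).hom ((h.appLE V O hO).hom a) *
        (Z'.presheaf.map (homOfLE hO'O).op).hom s = 0
      rw [← map_mul, hs, map_zero]
    exact hreg this
  have h1 := TopCat.Presheaf.germ_res_apply Z'.presheaf (homOfLE hO'O) x hxO' s
  show Z'.presheaf.germ O x hx s = Z'.presheaf.germ O x hx 0
  rw [map_zero, ← h1]
  exact (congrArg (Z'.presheaf.germ O' x hxO').hom hres).trans (map_zero _)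

/-- flatness over a regular one-dimensional base from flatness of a scheme-theoretically dense
subscheme. -/
theorem flat_of_stalk_injective' {Y Z Z' : Scheme.{u}} [IsIntegral Y]
    (hY : ∀ y : Y, IsRegularLocalRing (Y.presheaf.stalk y) ∧
      ringKrullDim (Y.presheaf.stalk y) ≤ 1)
    (g : Z ⟶ Y) (w : Z' ⟶ Z)
    (hinj : ∀ x : Z, Function.Injective ((TopCat.Presheaf.stalkFunctor CommRingCat x).map w.c))
    [Flat (w ≫ g)] : Flat g := by
  rw [Flat.iff_flat_stalkMap]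
  intro x
  haveI hpid : IsPrincipalIdealRing (Y.presheaf.stalk (g x)) :=
    isPrincipalIdealRing_of_regular _ (hY _).1 (hY _).2
  rw [RingHom.Flat]
  letI := (g.stalkMap x).hom.toAlgebra
  rw [Module.Flat.flat_iff_torsion_eq_bot_of_isBezout, eq_bot_iff]
  intro t ht
  obtain ⟨⟨b, hb⟩, hbt⟩ := (Submodule.mem_torsion_iff t).mp ht
  have hbt' : g.stalkMap x b * t = 0 := hbt
  obtain ⟨V, hyV, a, rfl⟩ := Y.presheaf.exists_germ_eq b
  obtain ⟨W, hxW, s, rfl⟩ := Z.presheaf.exists_germ_eq t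
  rw [Submodule.mem_bot]
  -- shrink `V` to an affine open
  obtain ⟨V1, hV1, hyV1, hV1V⟩ := exists_affine_nhds (g x) V hyV
  obtain ⟨a1, ha1⟩ : ∃ a1 : Γ(Y, V1), a1 = (Y.presheaf.map (homOfLE hV1V).op).hom a := ⟨_, rfl⟩
  have hga1 : Y.presheaf.germ V1 (g x) hyV1 a1 = Y.presheaf.germ V (g x) hyV a := by
    rw [ha1]
    exact TopCat.Presheaf.germ_res_apply Y.presheaf (homOfLE hV1V) (g x) hyV1 a
  have ha1ne : a1 ≠ 0 := by
    intro h0
    rw [← hga1, h0, map_zero] at hb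
    exact zero_notMem_nonZeroDivisors hb
  -- a common open
  obtain ⟨W1, hW1⟩ : ∃ W1 : Z.Opens, W1 = W ⊓ g ⁻¹ᵁ V1 := ⟨_, rfl⟩
  have hxW1 : x ∈ W1 := by rw [hW1]; exact ⟨hxW, hyV1⟩
  have hW1V : W1 ≤ g ⁻¹ᵁ V1 := by rw [hW1]; exact inf_le_right
  have hW1W : W1 ≤ W := by rw [hW1]; exact inf_le_left
  obtain ⟨s1, hs1⟩ : ∃ s1 : Γ(Z, W1), s1 = (Z.presheaf.map (homOfLE hW1W).op).hom s := ⟨_, rfl⟩
  have hgs1 : Z.presheaf.germ W1 x hxW1 s1 = Z.presheaf.germ W x hxW s := by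
    rw [hs1]
    exact TopCat.Presheaf.germ_res_apply Z.presheaf (homOfLE hW1W) x hxW1 s
  have hprod : Z.presheaf.germ W1 x hxW1 ((g.appLE V1 W1 hW1V).hom a1 * s1) =
      Z.presheaf.germ W1 x hxW1 0 := by
    rw [map_mul, hgs1, map_zero]
    have h2 : Z.presheaf.germ W1 x hxW1 ((g.appLE V1 W1 hW1V).hom a1) =
        g.stalkMap x (Y.presheaf.germ V1 (g x) hyV1 a1) := by
      rw [Scheme.Hom.germ_stalkMap_apply]
      exact TopCat.Presheaf.germ_res_apply Z.presheaf (homOfLE hW1V) x hxW1 ((g.app V1).hom a1)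
    rw [h2, hga1]
    exact hbt'
  -- a smaller open where the product vanishes
  obtain ⟨W2, hxW2, iU, iV, hW2⟩ := TopCat.Presheaf.germ_eq Z.presheaf x hxW1 hxW1 _ _ hprod
  have hW2W1 : W2 ≤ W1 := iU.le
  have hW2V : W2 ≤ g ⁻¹ᵁ V1 := hW2W1.trans hW1V
  obtain ⟨s2, hs2⟩ : ∃ s2 : Γ(Z, W2), s2 = (Z.presheaf.map (homOfLE hW2W1).op).hom s1 := ⟨_, rfl⟩
  have hgs2 : Z.presheaf.germ W2 x hxW2 s2 = Z.presheaf.germ W x hxW s := by
    rw [hs2, ← hgs1]
    exact TopCat.Presheaf.germ_res_apply Z.presheaf (homOfLE hW2W1) x hxW2 s1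
  have hz : (g.appLE V1 W2 hW2V).hom a1 * s2 = 0 := by
    have e1 : g.appLE V1 W2 hW2V = g.appLE V1 W1 hW1V ≫ Z.presheaf.map (homOfLE hW2W1).op :=
      (Scheme.Hom.appLE_map _ _ _).symm
    have h3 : (Z.presheaf.map (homOfLE hW2W1).op).hom ((g.appLE V1 W1 hW1V).hom a1 * s1) = 0 := by
      have : iU = homOfLE hW2W1 := Subsingleton.elim _ _
      rw [← this]
      exact hW2.trans (map_zero _)
    rw [map_mul] at h3
    rw [e1, hs2]
    exact h3
  -- push to `Z'`
  have hO : w ⁻¹ᵁ W2 ≤ (w ≫ g) ⁻¹ᵁ V1 := fun p hp => hW2V hp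
  have e2 : (w ≫ g).appLE V1 (w ⁻¹ᵁ W2) hO = g.appLE V1 W2 hW2V ≫ w.app W2 := by
    have h5 : g.appLE V1 W2 hW2V = g.app V1 ≫ Z.presheaf.map (homOfLE hW2V).op := rfl
    have h6 : w.app W2 = w.appLE W2 (w ⁻¹ᵁ W2) le_rfl := Scheme.Hom.app_eq_appLE _
    rw [Scheme.Hom.comp_appLE, h5, h6, Category.assoc, Scheme.Hom.map_appLE]
  have hz' : ((w ≫ g).appLE V1 (w ⁻¹ᵁ W2) hO).hom a1 * (w.app W2).hom s2 = 0 := by
    rw [e2]
    show (w.app W2).hom ((g.appLE V1 W2 hW2V).hom a1) * (w.app W2).hom s2 = 0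
    rw [← map_mul, hz, map_zero]
  have hws : (w.app W2).hom s2 = 0 :=
    eq_zero_of_mul_eq_zero (w ≫ g) V1 hV1 a1 ha1ne (w ⁻¹ᵁ W2) hO _ hz'
  have hφ : (TopCat.Presheaf.stalkFunctor CommRingCat x).map w.c
      (Z.presheaf.germ W2 x hxW2 s2) = 0 := by
    rw [TopCat.Presheaf.stalkFunctor_map_germ_apply]
    have h0 : (ConcreteCategory.hom (w.c.app (op W2))) s2 = 0 := hws
    rw [h0, map_zero]
    rfl
  rw [← hgs2]
  exact hinj x
    (hφ.trans (map_zero ((TopCat.Presheaf.stalkFunctor CommRingCat x).map w.c).hom).symm)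

/-- the map to the scheme-theoretic image is injective on sections over every open. -/
theorem toImage_app_injective' {X Y : Scheme.{u}} (f : X ⟶ Y) [QuasiCompact f]
    (W : f.image.Opens) : Function.Injective (f.toImage.app W).hom := by
  rw [injective_iff_map_eq_zero]
  intro s hs
  refine TopCat.Presheaf.section_ext f.image.sheaf W s 0 (fun x hx => ?_)
  show f.image.presheaf.germ W x hx s = f.image.presheaf.germ W x hx 0
  apply f.stalkFunctor_toImage_injective x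
  rw [TopCat.Presheaf.stalkFunctor_map_germ_apply, TopCat.Presheaf.stalkFunctor_map_germ_apply]
  have h0 : (ConcreteCategory.hom (f.toImage.c.app (op W))) s =
      (ConcreteCategory.hom (f.toImage.c.app (op W))) 0 :=
    hs.trans (map_zero (f.toImage.app W).hom).symm
  rw [h0]

/-- injectivity on sections passes from `l ≫ p` to `l` when `p` is an open immersion. -/
theorem app_injective_of_comp_openImmersion {X Q Z : Scheme.{u}} (l : X ⟶ Q) (p : Q ⟶ Z)
    [IsOpenImmersion p] (j : X ⟶ Z) (hj : l ≫ p = j)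
    (hinj : ∀ W : Z.Opens, Function.Injective (j.app W).hom) (W' : Q.Opens) :
    Function.Injective (l.app W').hom := by
  subst hj
  rw [injective_iff_map_eq_zero]
  intro s hs
  obtain ⟨s0, rfl⟩ : ∃ s0, (p.appIso W').hom.hom s0 = s :=
    ⟨(p.appIso W').inv.hom s, by
      rw [← CommRingCat.comp_apply, Iso.inv_hom_id]; rfl⟩
  have hle : l ⁻¹ᵁ W' ≤ (l ≫ p) ⁻¹ᵁ (p ''ᵁ W') := fun z hz => ⟨l z, hz, rfl⟩
  have hge : (l ≫ p) ⁻¹ᵁ (p ''ᵁ W') ≤ l ⁻¹ᵁ W' := by
    rintro z ⟨q, hq, hqz⟩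
    have : q = l z := p.isOpenEmbedding.injective hqz
    show l z ∈ W'
    rw [← this]
    exact hq
  have e : (l ≫ p).appLE (p ''ᵁ W') (l ⁻¹ᵁ W') hle = (p.appIso W').hom ≫ l.app W' := by
    rw [Scheme.Hom.appIso_hom', Scheme.Hom.app_eq_appLE, Scheme.Hom.appLE_comp_appLE]
  have h1 : ((l ≫ p).appLE (p ''ᵁ W') (l ⁻¹ᵁ W') hle).hom s0 = 0 := by
    rw [e]; exact hs
  have hid : X.presheaf.map (homOfLE hle).op ≫ X.presheaf.map (homOfLE hge).op = 𝟙 _ := by
    rw [← Functor.map_comp]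
    exact (congrArg X.presheaf.map (Subsingleton.elim _ (𝟙 _))).trans (X.presheaf.map_id _)
  have h2 : ((l ≫ p).app (p ''ᵁ W')).hom s0 = 0 := by
    have h3 : (X.presheaf.map (homOfLE hge).op).hom
        ((X.presheaf.map (homOfLE hle).op).hom (((l ≫ p).app (p ''ᵁ W')).hom s0)) = 0 :=
      (congrArg (X.presheaf.map (homOfLE hge).op).hom h1).trans (map_zero _)
    rw [← CommRingCat.comp_apply, hid] at h3
    exact h3
  have h4 : s0 = 0 := hinj _ (h2.trans (map_zero _).symm)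
  rw [h4, map_zero]

/-- the scheme-theoretic image of a closed subscheme of an open restricts to it. -/
theorem isPullback_toImage {X T V : Scheme.{u}} (i : X ⟶ V) [IsClosedImmersion i] (ι : V ⟶ T)
    [IsOpenImmersion ι] [QuasiCompact (i ≫ ι)] :
    IsPullback (i ≫ ι).toImage i (i ≫ ι).imageι ι := by
  let l : X ⟶ pullback (i ≫ ι).imageι ι :=
    pullback.lift (i ≫ ι).toImage i (Scheme.Hom.toImage_imageι _)
  have hl1 : l ≫ pullback.fst (i ≫ ι).imageι ι = (i ≫ ι).toImage := pullback.lift_fst _ _ _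
  have hl2 : l ≫ pullback.snd (i ≫ ι).imageι ι = i := pullback.lift_snd _ _ _
  suffices IsIso l from
    IsPullback.of_iso_pullback ⟨Scheme.Hom.toImage_imageι _⟩ (asIso l) hl1 hl2
  haveI : IsClosedImmersion (l ≫ pullback.snd (i ≫ ι).imageι ι) := by
    rw [hl2]; infer_instance
  haveI : IsClosedImmersion l :=
    IsClosedImmersion.of_comp_isClosedImmersion l (pullback.snd (i ≫ ι).imageι ι)
  rw [IsClosedImmersion.isIso_iff_ker_eq_bot]
  refine ker_eq_bot_of_cover l Set.univ (fun x => ?_) (fun W _ => ?_)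
  · obtain ⟨W, hW, hx, -⟩ := exists_affine_nhds x ⊤ trivial
    exact ⟨⟨W, hW⟩, trivial, hx⟩
  · exact app_injective_of_comp_openImmersion l (pullback.fst (i ≫ ι).imageι ι) _ hl1
      (toImage_app_injective' (i ≫ ι)) W.1

/-- an open immersion into a flat scheme over an integral base whose image contains the inverse
image of a "locally principal" dense open has trivial kernel. -/
theorem ker_eq_bot_of_flat {X X'' Y : Scheme.{u}} [IsIntegral Y] (g : X'' ⟶ Y) [Flat g]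
    (j : X ⟶ X'') [IsOpenImmersion j] [QuasiCompact j]
    (U : Y.Opens) (hrange : g ⁻¹ᵁ U ≤ j.opensRange)
    (hloc : ∀ y : Y, ∃ V0 : Y.Opens, IsAffineOpen V0 ∧ y ∈ V0 ∧
      ∃ t : Γ(Y, V0), t ≠ 0 ∧ Y.basicOpen t ≤ U) :
    j.ker = ⊥ := by
  refine ker_eq_bot_of_cover j
    {W | ∃ (V0 : Y.Opens) (_ : IsAffineOpen V0) (t : Γ(Y, V0)), t ≠ 0 ∧ Y.basicOpen t ≤ U ∧
      W.1 ≤ g ⁻¹ᵁ V0} ?_ ?_
  · intro x
    obtain ⟨V0, hV0, hy, t, ht, htU⟩ := hloc (g x)
    obtain ⟨W, hW, hxW, hWV⟩ := exists_affine_nhds x (g ⁻¹ᵁ V0) hy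
    exact ⟨⟨W, hW⟩, ⟨V0, hV0, t, ht, htU, hWV⟩, hxW⟩
  · rintro ⟨W, hW⟩ ⟨V0, hV0, t, ht, htU, hWV⟩
    dsimp only at hWV
    show Function.Injective (j.app W).hom
    rw [injective_iff_map_eq_zero]
    intro s hs
    -- `s` vanishes on `j(j⁻¹ W)`
    have hle0 : j ''ᵁ j ⁻¹ᵁ W ≤ W := j.image_preimage_le W
    have h1 : (X''.presheaf.map (homOfLE hle0).op).hom s = 0 := by
      have e0 : j.app W ≫ (j.appIso (j ⁻¹ᵁ W)).inv = X''.presheaf.map (homOfLE hle0).op :=
        j.app_appIso_inv W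
      rw [← e0]
      show (j.appIso (j ⁻¹ᵁ W)).inv.hom ((j.app W).hom s) = 0
      rw [hs, map_zero]
    obtain ⟨t', ht'⟩ : ∃ t' : Γ(X'', W), t' = (g.appLE V0 W hWV).hom t := ⟨_, rfl⟩
    have hD : X''.basicOpen t' ≤ j ''ᵁ j ⁻¹ᵁ W := by
      rw [Scheme.Hom.image_preimage_eq_opensRange_inf]
      refine le_inf ?_ (X''.basicOpen_le t')
      refine le_trans ?_ hrange
      rw [ht', Scheme.Hom.appLE]
      show X''.basicOpen ((X''.presheaf.map (homOfLE hWV).op).hom ((g.app V0).hom t)) ≤ _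
      rw [Scheme.basicOpen_res, ← Scheme.preimage_basicOpen]
      exact inf_le_right.trans (fun z hz => htU hz)
    have h2 : (X''.presheaf.map (homOfLE (X''.basicOpen_le t')).op).hom s = 0 := by
      have e3 : X''.presheaf.map (homOfLE (X''.basicOpen_le t')).op =
          X''.presheaf.map (homOfLE hle0).op ≫
            X''.presheaf.map (homOfLE hD).op := by
        rw [← Functor.map_comp]; rfl
      rw [e3]
      show (X''.presheaf.map (homOfLE hD).op).hom
        ((X''.presheaf.map (homOfLE hle0).op).hom s) = 0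
      rw [h1, map_zero]
    obtain ⟨n, hn⟩ :=
      exists_pow_mul_eq_zero_of_res_basicOpen_eq_zero_of_isAffineOpen X'' hW s t' h2
    have hne : t ^ n ≠ 0 := by
      haveI : Nonempty V0 := by
        by_contra hemp
        rw [not_nonempty_iff] at hemp
        haveI : Subsingleton Γ(Y, V0) := by
          have : V0 = ⊥ := by
            ext z
            simp only [Opens.coe_bot, Set.mem_empty_iff_false, iff_false]
            exact fun hz => hemp.false ⟨z, hz⟩
          rw [this]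
          infer_instance
        exact ht (Subsingleton.elim _ _)
      exact pow_ne_zero n ht
    refine eq_zero_of_mul_eq_zero g V0 hV0 (t ^ n) hne W hWV s ?_
    rw [map_pow, ← ht']
    exact hn

/-- **Flat limits over a curve.** -/
theorem main {T Y : Scheme.{u}} [IsIntegral Y] [IsLocallyNoetherian Y]
    (hreg : ∀ y : Y, IsRegularLocalRing (Y.presheaf.stalk y))
    (hY : topologicalKrullDim Y = 1) (P : Y) (U : Y.Opens) (hU : (U : Set Y) = {P}ᶜ)
    (f : T ⟶ Y) (X : Scheme.{u}) (i : X ⟶ ↑(f ⁻¹ᵁ U)) [IsClosedImmersion i]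
    [Flat (i ≫ (f ⁻¹ᵁ U).ι ≫ f)] :
    ∃ (X' : Scheme.{u}) (i' : X' ⟶ T) (j : X ⟶ X'),
      IsClosedImmersion i' ∧ Flat (i' ≫ f) ∧ IsPullback j i i' (f ⁻¹ᵁ U).ι ∧
      ∀ (X'' : Scheme.{u}) (i'' : X'' ⟶ T) (j'' : X ⟶ X''),
        IsClosedImmersion i'' → Flat (i'' ≫ f) → IsPullback j'' i i'' (f ⁻¹ᵁ U).ι →
        ∃ e : X' ≅ X'', e.hom ≫ i'' = i' := by
  haveI : QuasiCompact (f ⁻¹ᵁ U).ι :=
    MorphismProperty.of_isPullback (P := @QuasiCompact) (isPullback_morphismRestrict f U)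
      inferInstance
  haveI : QuasiCompact (i ≫ (f ⁻¹ᵁ U).ι) := inferInstance
  have hY' : ∀ y : Y, IsRegularLocalRing (Y.presheaf.stalk y) ∧
      ringKrullDim (Y.presheaf.stalk y) ≤ 1 := fun y =>
    ⟨hreg y, (Groth.Agent.H3.FibreDim.stalk_dim_le Y y).trans hY.le⟩
  have hPcl : IsClosed ({P} : Set Y) := by
    rw [← isOpen_compl_iff, ← hU]
    exact U.isOpen
  refine ⟨(i ≫ (f ⁻¹ᵁ U).ι).image, (i ≫ (f ⁻¹ᵁ U).ι).imageι, (i ≫ (f ⁻¹ᵁ U).ι).toImage,
    inferInstance, ?_, isPullback_toImage i (f ⁻¹ᵁ U).ι, ?_⟩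
  · haveI : Flat ((i ≫ (f ⁻¹ᵁ U).ι).toImage ≫ (i ≫ (f ⁻¹ᵁ U).ι).imageι ≫ f) := by
      rw [Scheme.Hom.toImage_imageι_assoc, Category.assoc]
      infer_instance
    exact flat_of_stalk_injective' hY' _ (i ≫ (f ⁻¹ᵁ U).ι).toImage
      (fun x => (i ≫ (f ⁻¹ᵁ U).ι).stalkFunctor_toImage_injective x)
  · intro X'' i'' j'' hcl hfl H
    haveI := hcl
    haveI := hfl
    haveI : IsOpenImmersion j'' :=
      MorphismProperty.of_isPullback (P := @IsOpenImmersion) H.flip inferInstance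
    haveI : QuasiCompact j'' :=
      MorphismProperty.of_isPullback (P := @QuasiCompact) H.flip inferInstance
    have hrange : (i'' ≫ f) ⁻¹ᵁ U ≤ j''.opensRange := by
      intro x hx
      have hx' : i'' x ∈ f ⁻¹ᵁ U := hx
      have hv : (f ⁻¹ᵁ U).ι ⟨i'' x, hx'⟩ = i'' x := rfl
      obtain ⟨z', hz1, hz2⟩ := Scheme.Pullback.exists_preimage_pullback (f := i'')
        (g := (f ⁻¹ᵁ U).ι) x ⟨i'' x, hx'⟩ hv.symm
      refine ⟨H.isoPullback.inv z', ?_⟩
      have : H.isoPullback.inv ≫ j'' = pullback.fst _ _ := H.isoPullback_inv_fst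
      rw [← hz1, ← this]
      rfl
    have hloc : ∀ y : Y, ∃ V0 : Y.Opens, IsAffineOpen V0 ∧ y ∈ V0 ∧
        ∃ t : Γ(Y, V0), t ≠ 0 ∧ Y.basicOpen t ≤ U := by
      intro y
      obtain ⟨V0, hV0, hyV0, -⟩ := exists_affine_nhds y ⊤ trivial
      have hη : genericPoint Y ∈ V0 := genericPoint_mem V0 y hyV0
      have hηU : genericPoint Y ∈ U := by
        show genericPoint Y ∈ (U : Set Y)
        rw [hU]
        intro hmem
        have hne : P ≠ genericPoint Y := by
          rintro rfl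
          have h1 := (genericPoint_spec Y).def
          rw [hPcl.closure_eq] at h1
          have hsub : Subsingleton Y := by
            constructor
            intro a b
            have ha : a ∈ ({genericPoint Y} : Set Y) := by rw [h1]; trivial
            have hb : b ∈ ({genericPoint Y} : Set Y) := by rw [h1]; trivial
            rw [Set.mem_singleton_iff] at ha hb
            rw [ha, hb]
          have h2 := topologicalKrullDim_zero_of_discreteTopology Y
          rw [hY] at h2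
          norm_num at h2
        exact hne (Set.mem_singleton_iff.mp hmem).symm
      obtain ⟨t, htU, hηt⟩ := hV0.exists_basicOpen_le ⟨genericPoint Y, hηU⟩ hη
      refine ⟨V0, hV0, hyV0, t, ?_, htU⟩
      rintro rfl
      rw [Scheme.basicOpen_zero] at hηt
      exact hηt
    have hk : j''.ker = ⊥ := ker_eq_bot_of_flat (i'' ≫ f) j'' U hrange hloc
    have hker : i''.ker = (i ≫ (f ⁻¹ᵁ U).ι).imageι.ker := by
      have h1 : (i ≫ (f ⁻¹ᵁ U).ι).imageι.ker = (i ≫ (f ⁻¹ᵁ U).ι).ker :=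
        Scheme.IdealSheafData.ker_subschemeι _
      rw [h1, ← H.w, Scheme.Hom.ker_comp, hk, Scheme.IdealSheafData.map_bot]
    haveI := IsClosedImmersion.isIso_lift i'' (i ≫ (f ⁻¹ᵁ U).ι).imageι hker
    exact ⟨asIso (IsClosedImmersion.lift i'' (i ≫ (f ⁻¹ᵁ U).ι).imageι hker.le),
      IsClosedImmersion.lift_fac _ _ _⟩

end Groth.Agent.H5.FlatLim
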